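import Mathlib
import Groth.Prelude.Def_SGA3b
import Groth.Agent.Lib.Helper6.MultType.Rigid
import Groth.Agent.Lib.Helper6.MultType.RigidComm

/-!
# Rigidity of homomorphisms from a group of multiplicative type over a local base (helper6)

Two homomorphisms from a group of multiplicative type (of finite type) over a local ring which
agree on the closed fibre are equal, when the difference ideal is finitely generated and the
congruence is self-improving on the diagonalisable charts.  The point is that on a chart the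
coefficients of the differences generate a finitely generated idempotent ideal, hence an ideal
generated by an idempotent `e`; `1 - e` kills the differences and `e` lies in `𝔪 R'`.
-/

set_option autoImplicit false
set_option linter.unusedSectionVars false
set_option linter.unusedVariables false
set_option linter.unusedSimpArgs false
set_option linter.style.haveILetI false
set_option linter.overlappingInstances false
set_option maxHeartbeats 800000
set_option synthInstance.maxHeartbeats 400000

noncomputable section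

namespace Groth.Agent.Lib.Helper6.LocRigid

open TensorProduct SGA3b Coalgebra WithConv Groth.Agent.Lib.Helper6.MultType

universe u

section CH

variable {S : Type u} [CommRing S] {M : Type u} [CommGroup M] {X : Type u} [AddCommGroup X]
  [Module S X]

/-- a self-improving family of elements of a group algebra with finitely generated ideal is killed
by `1 - e` for an idempotent `e` lying in every ideal containing the coefficients -/
theorem exists_idem_of_selfImproving (β : X →ₗ[S] MonoidAlgebra S M) (T : Finset X)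
    (hT : ∀ x, β x ∈ Ideal.span (β '' (T : Set X)))
    (himp : ∀ 𝔞 : Ideal S, (∀ x, β x ∈ Ideal.map (algebraMap S (MonoidAlgebra S M)) 𝔞) →
      ∀ x, β x ∈ Ideal.map (algebraMap S (MonoidAlgebra S M)) (𝔞 ^ 2)) :
    ∃ e : S, IsIdempotentElem e ∧ (∀ x, (1 - e) • β x = 0) ∧
      ∀ 𝔠 : Ideal S, (∀ t ∈ T, β t ∈ Ideal.map (algebraMap S (MonoidAlgebra S M)) 𝔠) →
        e ∈ 𝔠 := by
  classical
  let G : Finset S := T.biUnion (fun t => (β t).coeff.support.image (fun m => (β t).coeff m))
  set 𝔡 : Ideal S := Ideal.span (G : Set S) with h𝔡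
  have hG : ∀ t ∈ T, ∀ m, (β t).coeff m ∈ 𝔡 := by
    intro t ht m
    by_cases hm : m ∈ (β t).coeff.support
    · apply Ideal.subset_span
      rw [Finset.mem_coe, Finset.mem_biUnion]
      exact ⟨t, ht, Finset.mem_image.mpr ⟨m, hm, rfl⟩⟩
    · rw [Finsupp.notMem_support_iff.mp hm]
      exact Ideal.zero_mem _
  have h1 : ∀ t ∈ T, β t ∈ Ideal.map (algebraMap S (MonoidAlgebra S M)) 𝔡 := fun t ht =>
    mem_map_of_coeff_mem S M 𝔡 (β t) (hG t ht)
  have h2 : ∀ x, β x ∈ Ideal.map (algebraMap S (MonoidAlgebra S M)) 𝔡 := by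
    intro x
    refine (Ideal.span_le.mpr ?_) (hT x)
    rintro _ ⟨t, ht, rfl⟩
    exact h1 t ht
  have h3 := himp 𝔡 h2
  have h4 : 𝔡 ≤ 𝔡 ^ 2 := by
    rw [h𝔡, Ideal.span_le]
    intro g hg
    rw [Finset.mem_coe, Finset.mem_biUnion] at hg
    obtain ⟨t, ht, hg⟩ := hg
    obtain ⟨m, hm, rfl⟩ := Finset.mem_image.mp hg
    exact linearMap_mem_of_mem_map S (Ideal.span (G : Set S) ^ 2) (coeffL S M m) (h3 t)
  have hidem : IsIdempotentElem 𝔡 := by
    show 𝔡 * 𝔡 = 𝔡
    apply le_antisymm Ideal.mul_le_left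
    rw [← pow_two]
    exact h4
  have hfg : 𝔡.FG := ⟨G, rfl⟩
  obtain ⟨e, he, hde⟩ := (Ideal.isIdempotentElem_iff_of_fg 𝔡 hfg).mp hidem
  refine ⟨e, he, ?_, ?_⟩
  · intro x
    rw [← MonoidAlgebra.coeff_inj]
    ext m
    have hm : (β x).coeff m ∈ 𝔡 := linearMap_mem_of_mem_map S 𝔡 (coeffL S M m) (h2 x)
    rw [hde, Submodule.mem_span_singleton] at hm
    obtain ⟨r, hr⟩ := hm
    rw [MonoidAlgebra.coeff_smul_apply, ← hr, MonoidAlgebra.coeff_zero, Finsupp.zero_apply,
      smul_eq_mul, smul_eq_mul]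
    have he' : e * e = e := he
    linear_combination (-r) * he'
  · intro 𝔠 h𝔠
    have hle : 𝔡 ≤ 𝔠 := by
      rw [h𝔡, Ideal.span_le]
      intro g hg
      rw [Finset.mem_coe, Finset.mem_biUnion] at hg
      obtain ⟨t, ht, hg⟩ := hg
      obtain ⟨m, hm, rfl⟩ := Finset.mem_image.mp hg
      exact linearMap_mem_of_mem_map S 𝔠 (coeffL S M m) (h𝔠 t ht)
    apply hle
    rw [hde]
    exact Submodule.mem_span_singleton_self e

end CH

section descent

variable {R : Type u} [CommRing R] [IsLocalRing R] {A : Type u} [CommRing A] [Algebra R A]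

/-- an element of `A` killed, over a flat `R`-algebra `R'` with `𝔪 R' ≠ R'`, by `1 - e` with
`e ∈ 𝔪 R'` vanishes -/
theorem eq_zero_of_one_sub_tmul_eq_zero (a : A) (R' : Type u) [CommRing R'] [Algebra R R']
    (hflat : Module.Flat R R')
    (hne : Ideal.map (algebraMap R R') (IsLocalRing.maximalIdeal R) ≠ ⊤)
    (e : R') (he : e ∈ Ideal.map (algebraMap R R') (IsLocalRing.maximalIdeal R))
    (hk : (1 - e) ⊗ₜ[R] a = (0 : R' ⊗[R] A)) : a = 0 := by
  by_contra ha
  let g : R →ₗ[R] A := LinearMap.toSpanSingleton R A a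
  have hker : LinearMap.ker g ≠ ⊤ := by
    intro htop
    apply ha
    have : (1 : R) ∈ LinearMap.ker g := htop ▸ Submodule.mem_top
    rw [LinearMap.mem_ker] at this
    simpa [g] using this
  have hle : LinearMap.ker g ≤ IsLocalRing.maximalIdeal R := IsLocalRing.le_maximalIdeal hker
  let gq : (R ⧸ LinearMap.ker g) →ₗ[R] A := (LinearMap.ker g).liftQ g le_rfl
  have hgq : Function.Injective gq := by
    rw [← LinearMap.ker_eq_bot]
    exact Submodule.ker_liftQ_eq_bot _ _ _ le_rfl
  have hinj := Module.Flat.lTensor_preserves_injective_linearMap (M := R') gq hgq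
  have h0 : ((1 - e) ⊗ₜ[R] (Submodule.Quotient.mk (p := LinearMap.ker g) (1 : R))) = 0 := by
    apply hinj
    rw [map_zero, LinearMap.lTensor_tmul]
    have : gq (Submodule.Quotient.mk (1 : R)) = a := by
      show (LinearMap.ker g).liftQ g le_rfl (Submodule.Quotient.mk (1 : R)) = _
      rw [Submodule.liftQ_apply]
      simp [g]
    rw [this]
    exact hk
  have h1 := congrArg (TensorProduct.tensorQuotEquivQuotSMul R' (LinearMap.ker g)) h0
  rw [map_zero] at h1
  have h1' : (TensorProduct.tensorQuotEquivQuotSMul R' (LinearMap.ker g))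
      ((1 - e) ⊗ₜ[R] (Ideal.Quotient.mk (LinearMap.ker g) (1 : R))) = 0 := h1
  rw [TensorProduct.tensorQuotEquivQuotSMul_tmul_mk, one_smul,
    Submodule.Quotient.mk_eq_zero, Ideal.smul_top_eq_map] at h1'
  have h2 : (1 - e) ∈ Ideal.map (algebraMap R R') (IsLocalRing.maximalIdeal R) :=
    Ideal.map_mono hle h1'
  apply hne
  rw [Ideal.eq_top_iff_one]
  have : (1 : R') = (1 - e) + e := by ring
  rw [this]
  exact Ideal.add_mem _ h2 he

end descent

section gens

variable {R : Type u} [CommRing R] {A : Type u} [CommRing A] [Algebra R A]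
  {C : Type u} [CommRing C] [Algebra R C]

/-- the differences of two algebra maps out of an algebra of finite type generate a finitely
generated ideal -/
lemma exists_finset_sub_mem_span_of_finiteType (hC : Algebra.FiniteType R C) (φ ψ : C →ₐ[R] A) :
    ∃ T : Finset C, ∀ c, φ c - ψ c ∈ Ideal.span ((fun c => φ c - ψ c) '' (T : Set C)) := by
  obtain ⟨T, hT⟩ := hC.out
  refine ⟨T, ?_⟩
  set J₀ : Ideal A := Ideal.span ((fun c => φ c - ψ c) '' (T : Set C)) with hJ₀
  let S₀ : Subalgebra R C :=
    { carrier := {c | φ c - ψ c ∈ J₀}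
      mul_mem' := by
        intro x y hx hy
        show φ (x * y) - ψ (x * y) ∈ J₀
        have : φ (x * y) - ψ (x * y) = φ x * (φ y - ψ y) + ψ y * (φ x - ψ x) := by
          rw [map_mul, map_mul]; ring
        rw [this]
        exact Ideal.add_mem _ (Ideal.mul_mem_left _ _ hy) (Ideal.mul_mem_left _ _ hx)
      add_mem' := by
        intro x y hx hy
        show φ (x + y) - ψ (x + y) ∈ J₀
        have : φ (x + y) - ψ (x + y) = (φ x - ψ x) + (φ y - ψ y) := by
          rw [map_add, map_add]; ring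
        rw [this]
        exact Ideal.add_mem _ hx hy
      algebraMap_mem' := by
        intro r
        show φ (algebraMap R C r) - ψ (algebraMap R C r) ∈ J₀
        rw [AlgHom.commutes, AlgHom.commutes, sub_self]
        exact Ideal.zero_mem _ }
  have hle : Algebra.adjoin R (T : Set C) ≤ S₀ := by
    apply Algebra.adjoin_le
    intro t ht
    show φ t - ψ t ∈ J₀
    exact Ideal.subset_span ⟨t, ht, rfl⟩
  intro c
  have hc : c ∈ Algebra.adjoin R (T : Set C) := by rw [hT]; exact Algebra.mem_top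
  exact hle hc

/-- the same over a Noetherian ring, for a target of finite type -/
lemma exists_finset_sub_mem_span_of_noetherian [IsNoetherianRing R] (hA : Algebra.FiniteType R A)
    (φ ψ : C →ₐ[R] A) :
    ∃ T : Finset C, ∀ c, φ c - ψ c ∈ Ideal.span ((fun c => φ c - ψ c) '' (T : Set C)) := by
  classical
  haveI : IsNoetherianRing A := Algebra.FiniteType.isNoetherianRing R A
  have hfg : (Ideal.span (Set.range fun c => φ c - ψ c)).FG :=
    IsNoetherian.noetherian _
  obtain ⟨s', hs', hspan⟩ := (Submodule.fg_span_iff_fg_span_finset_subset _).mp hfg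
  have hs'' : (s' : Set A) ⊆ (fun c => φ c - ψ c) '' (Set.univ : Set C) := by
    rw [Set.image_univ]
    exact hs'
  obtain ⟨T, -, hT⟩ := Finset.subset_set_image_iff.mp hs''
  refine ⟨T, ?_⟩
  intro c
  have h1 : φ c - ψ c ∈ Ideal.span (Set.range fun c => φ c - ψ c) :=
    Ideal.subset_span ⟨c, rfl⟩
  have h2 : Ideal.span (Set.range fun c => φ c - ψ c) = Ideal.span (s' : Set A) := hspan
  rw [h2, ← hT, Finset.coe_image] at h1
  exact h1

end gens

section main

variable {R : Type u} [CommRing R] [IsLocalRing R] {A : Type u} [CommRing A] [HopfAlgebra R A]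
  {C : Type u} [CommRing C] [Algebra R C]

/-- the general local rigidity statement -/
theorem algHom_eq_of_local (hH : IsMultType R A) (φ ψ : C →ₐ[R] A) (T : Finset C)
    (hT : ∀ c, φ c - ψ c ∈ Ideal.span ((fun c => φ c - ψ c) '' (T : Set C)))
    (hs : ∀ c, φ c - ψ c ∈ Ideal.map (algebraMap R A) (IsLocalRing.maximalIdeal R))
    (himp : ∀ (R' : Type u) [CommRing R'] [Algebra R R'] (M : Type u) [CommGroup M]
      (e : R' ⊗[R] A ≃ₐc[R'] MonoidAlgebra R' M) (𝔞 : Ideal R'),
      (∀ x : R' ⊗[R] C, e (Algebra.TensorProduct.map (AlgHom.id R' R') φ x) -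
          e (Algebra.TensorProduct.map (AlgHom.id R' R') ψ x) ∈
            Ideal.map (algebraMap R' (MonoidAlgebra R' M)) 𝔞) →
      ∀ x : R' ⊗[R] C, e (Algebra.TensorProduct.map (AlgHom.id R' R') φ x) -
          e (Algebra.TensorProduct.map (AlgHom.id R' R') ψ x) ∈
            Ideal.map (algebraMap R' (MonoidAlgebra R' M)) (𝔞 ^ 2)) :
    ∀ c, φ c = ψ c := by
  obtain ⟨R', _, _, hflat, hne, M, _, ⟨e⟩⟩ := IsMultType.exists_chart hH
    (IsLocalRing.maximalIdeal R) (IsLocalRing.maximalIdeal.isMaximal R).ne_top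
  -- the linear map of differences on the chart
  let eA : R' ⊗[R] A →ₐ[R'] MonoidAlgebra R' M := (e : R' ⊗[R] A →ₐ[R'] MonoidAlgebra R' M)
  let β : R' ⊗[R] C →ₗ[R'] MonoidAlgebra R' M :=
    eA.toLinearMap ∘ₗ ((Algebra.TensorProduct.map (AlgHom.id R' R') φ).toLinearMap -
      (Algebra.TensorProduct.map (AlgHom.id R' R') ψ).toLinearMap)
  have hβ : ∀ x, β x = e (Algebra.TensorProduct.map (AlgHom.id R' R') φ x) -
      e (Algebra.TensorProduct.map (AlgHom.id R' R') ψ x) := by
    intro x
    show eA (Algebra.TensorProduct.map (AlgHom.id R' R') φ x -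
      Algebra.TensorProduct.map (AlgHom.id R' R') ψ x) = _
    rw [map_sub]
    rfl
  have hβt : ∀ (r : R') (c : C), β (r ⊗ₜ[R] c) = eA (r ⊗ₜ[R] (φ c - ψ c)) := by
    intro r c
    show eA (Algebra.TensorProduct.map (AlgHom.id R' R') φ (r ⊗ₜ[R] c) -
      Algebra.TensorProduct.map (AlgHom.id R' R') ψ (r ⊗ₜ[R] c)) = _
    rw [Algebra.TensorProduct.map_tmul, Algebra.TensorProduct.map_tmul, ← TensorProduct.tmul_sub]
    rfl
  -- the ring map `A → R'[M]`
  let ρ : A →+* MonoidAlgebra R' M :=
    (eA : R' ⊗[R] A →+* MonoidAlgebra R' M).comp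
      (Algebra.TensorProduct.includeRight : A →ₐ[R] R' ⊗[R] A).toRingHom
  have hρ : ∀ a : A, ρ a = eA ((1 : R') ⊗ₜ[R] a) := fun a => rfl
  have hβρ : ∀ (r : R') (c : C), β (r ⊗ₜ[R] c) = eA (r ⊗ₜ[R] (1 : A)) * ρ (φ c - ψ c) := by
    intro r c
    rw [hβt, hρ, ← map_mul, Algebra.TensorProduct.tmul_mul_tmul, mul_one, one_mul]
  classical
  let T' : Finset (R' ⊗[R] C) := T.image (fun c => (1 : R') ⊗ₜ[R] c)
  have hspan : Ideal.map ρ (Ideal.span ((fun c => φ c - ψ c) '' (T : Set C))) ≤
      Ideal.span (β '' (T' : Set (R' ⊗[R] C))) := by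
    rw [Ideal.map_span, Ideal.span_le]
    rintro _ ⟨_, ⟨t, ht, rfl⟩, rfl⟩
    apply Ideal.subset_span
    refine ⟨(1 : R') ⊗ₜ[R] t, ?_, ?_⟩
    · rw [Finset.mem_coe, Finset.mem_image]
      exact ⟨t, ht, rfl⟩
    · rw [hβt]
      rfl
  have hT' : ∀ x, β x ∈ Ideal.span (β '' (T' : Set (R' ⊗[R] C))) := by
    intro x
    induction x using TensorProduct.induction_on with
    | zero => rw [map_zero]; exact Ideal.zero_mem _
    | tmul r c =>
      rw [hβρ]
      exact Ideal.mul_mem_left _ _ (hspan (Ideal.mem_map_of_mem ρ (hT c)))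
    | add x y hx hy => rw [map_add]; exact Ideal.add_mem _ hx hy
  have himp' : ∀ 𝔞 : Ideal R', (∀ x, β x ∈ Ideal.map (algebraMap R' (MonoidAlgebra R' M)) 𝔞) →
      ∀ x, β x ∈ Ideal.map (algebraMap R' (MonoidAlgebra R' M)) (𝔞 ^ 2) := by
    intro 𝔞 h x
    rw [hβ]
    apply himp R' M e 𝔞
    intro y
    rw [← hβ]
    exact h y
  obtain ⟨e', he', hkill, hmem⟩ := exists_idem_of_selfImproving β T' hT' himp'
  have he'm : e' ∈ Ideal.map (algebraMap R R') (IsLocalRing.maximalIdeal R) := by
    apply hmem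
    intro t ht
    rw [Finset.mem_image] at ht
    obtain ⟨c, hc, rfl⟩ := ht
    rw [hβt]
    apply algHom_mem_map
    have e2 : (1 : R') ⊗ₜ[R] (φ c - ψ c) =
        (Algebra.TensorProduct.includeRight (R := R) (A := R') (B := A) (φ c - ψ c)) := rfl
    rw [e2, map_map_tower]
    exact algHom_mem_map _ _ (hs c)
  intro c
  rw [← sub_eq_zero]
  apply eq_zero_of_one_sub_tmul_eq_zero (φ c - ψ c) R' hflat hne e' he'm
  have hinje : Function.Injective eA := e.injective
  apply hinje
  rw [map_zero]
  have h1 := hkill ((1 : R') ⊗ₜ[R] c)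
  rw [hβt, ← map_smul, TensorProduct.smul_tmul', smul_eq_mul, mul_one] at h1
  exact h1

end main

end Groth.Agent.Lib.Helper6.LocRigid
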