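import Mathlib
import Groth.Prelude.Def_SGA3b
import Groth.Agent.Lib.Helper6.LocRigid.LR1

/-!
# Rigidity over a local base: the two applications (helper6)

* a homomorphism from a group of multiplicative type and of finite type over a local ring which is
  trivial on the closed fibre is trivial;
* two homomorphisms to a commutative group which agree on the closed fibre are equal.
-/

set_option autoImplicit false
set_option linter.unusedSectionVars false
set_option linter.unusedVariables false
set_option linter.unusedSimpArgs false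
set_option linter.style.haveILetI false
set_option linter.overlappingInstances false
set_option maxHeartbeats 800000
set_option synthInstance.maxHeartbeats 400000

noncomputable section

namespace Groth.Agent.Lib.Helper6.LocRigid

open TensorProduct SGA3b Coalgebra WithConv Groth.Agent.Lib.Helper6.MultType

universe u

section diag

variable {S : Type u} [CommRing S] {M : Type u} [CommGroup M]

/-- self-improvement of the triviality congruence on a diagonalisable chart -/
lemma dlt_mem_sq_diag {X : Type u} [CommRing X] [HopfAlgebra S X]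
    (Φ : X →ₐc[S] MonoidAlgebra S M) (I : Ideal S)
    (H : ∀ x, dlt Φ x ∈ Ideal.map (algebraMap S (MonoidAlgebra S M)) I) :
    ∀ x, dlt Φ x ∈ Ideal.map (algebraMap S (MonoidAlgebra S M)) (I ^ 2) := by
  intro c
  apply diag_mem_of_approx_prim S M
  rw [comul_dlt]
  refine Ideal.sum_mem _ fun i _ => ?_
  have e : dlt Φ ((ℛ S c).left i) ⊗ₜ[S] dlt Φ ((ℛ S c).right i) =
      (Algebra.TensorProduct.includeLeft (R := S) (S := S) (A := MonoidAlgebra S M)
        (B := MonoidAlgebra S M) (dlt Φ ((ℛ S c).left i))) *
      (Algebra.TensorProduct.includeRight (R := S) (A := MonoidAlgebra S M)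
        (B := MonoidAlgebra S M) (dlt Φ ((ℛ S c).right i))) := by
    simp
  rw [e]
  have h1 := algHom_mem_map (Algebra.TensorProduct.includeLeft (R := S) (S := S)
    (A := MonoidAlgebra S M) (B := MonoidAlgebra S M)) I (H ((ℛ S c).left i))
  have h2 := algHom_mem_map (Algebra.TensorProduct.includeRight (R := S)
    (A := MonoidAlgebra S M) (B := MonoidAlgebra S M)) I (H ((ℛ S c).right i))
  have h3 := Ideal.mul_mem_mul h1 h2
  rw [← Ideal.map_mul, ← pow_two] at h3
  exact h3

/-- self-improvement of the congruence of two homomorphisms from a cocommutative bialgebra on a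
diagonalisable chart -/
lemma sub_mem_sq_diag {Y : Type u} [CommRing Y] [Bialgebra S Y] [IsCocomm S Y]
    (Φ Ψ : Y →ₐc[S] MonoidAlgebra S M) (I : Ideal S)
    (H : ∀ x, Φ x - Ψ x ∈ Ideal.map (algebraMap S (MonoidAlgebra S M)) I) :
    ∀ x, Φ x - Ψ x ∈ Ideal.map (algebraMap S (MonoidAlgebra S M)) (I ^ 2) := by
  intro x
  apply mem_map_of_coeff_mem S M
  intro m
  set e := comp Φ m with he
  set e' := comp Ψ m with he'
  set d := e - e' with hd
  have hee : e * e = e := comp_idem Φ m
  have hee' : e' * e' = e' := comp_idem Ψ m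
  have hd3 : d * d * d = d := by
    rw [hd]
    linear_combination (e - 3 * e' + 1) * hee + (3 * e - e' - 1) * hee'
  have hdI : ∀ c, d c ∈ I := by
    intro c
    have := linearMap_mem_of_mem_map S I (coeffL S M m) (H c)
    rw [map_sub] at this
    exact this
  have h1 := pow_maps_into I d hdI 2 x
  have h2 : d ^ (2 + 1) = d := by
    rw [pow_succ, pow_two]
    exact hd3
  rw [h2] at h1
  have h3 : (Φ x - Ψ x).coeff m = d x := by
    rw [MonoidAlgebra.coeff_sub]
    rfl
  rw [h3]
  exact Ideal.pow_le_pow_right (by norm_num) h1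

end diag

section final

variable {R : Type u} [CommRing R] {A : Type u} [CommRing A] [HopfAlgebra R A]
  {C : Type u} [CommRing C] [HopfAlgebra R C]

/-- the base change of a bialgebra map, read on a diagonalisable chart -/
def bcHom {R' : Type u} [CommRing R'] [Algebra R R'] {M : Type u} [CommGroup M]
    (e : R' ⊗[R] A ≃ₐc[R'] MonoidAlgebra R' M) (φ : C →ₐc[R] A) :
    R' ⊗[R] C →ₐc[R'] MonoidAlgebra R' M :=
  (e : R' ⊗[R] A →ₐc[R'] MonoidAlgebra R' M).comp
    (Bialgebra.TensorProduct.map (BialgHom.id R' R') φ)

lemma bcHom_apply {R' : Type u} [CommRing R'] [Algebra R R'] {M : Type u} [CommGroup M]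
    (e : R' ⊗[R] A ≃ₐc[R'] MonoidAlgebra R' M) (φ : C →ₐc[R] A) (x : R' ⊗[R] C) :
    bcHom e φ x = e (Algebra.TensorProduct.map (AlgHom.id R' R') (φ : C →ₐ[R] A) x) := by
  induction x using TensorProduct.induction_on with
  | zero => simp
  | tmul r c => rfl
  | add x y hx hy => simp only [map_add, hx, hy]

variable [IsLocalRing R]

/-- a homomorphism from a group of multiplicative type over a local ring which is trivial on the
closed fibre is trivial -/
theorem eq_counit_of_local (hft : Algebra.FiniteType R A) (hH : IsMultType R A)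
    (hC : IsNoetherianRing R ∨ Algebra.FinitePresentation R C) (φ : C →ₐc[R] A)
    (hs : ∀ c : C, φ c - algebraMap R A (counit (R := R) c) ∈
      Ideal.map (algebraMap R A) (IsLocalRing.maximalIdeal R)) :
    ∀ c : C, φ c = algebraMap R A (counit (R := R) c) := by
  let ψ : C →ₐ[R] A := (Algebra.ofId R A).comp (Bialgebra.counitAlgHom R C)
  have hψ : ∀ c, ψ c = algebraMap R A (counit (R := R) c) := fun c => rfl
  obtain ⟨T, hT⟩ : ∃ T : Finset C, ∀ c, (φ : C →ₐ[R] A) c - ψ c ∈
      Ideal.span ((fun c => (φ : C →ₐ[R] A) c - ψ c) '' (T : Set C)) := by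
    rcases hC with hN | hfp
    · haveI := hN
      exact exists_finset_sub_mem_span_of_noetherian hft _ _
    · haveI := hfp
      exact exists_finset_sub_mem_span_of_finiteType inferInstance _ _
  refine algHom_eq_of_local hH (φ : C →ₐ[R] A) ψ T hT (fun c => hs c) ?_
  intro R' _ _ M _ e 𝔞 h x
  have key : ∀ y : R' ⊗[R] C,
      e (Algebra.TensorProduct.map (AlgHom.id R' R') (φ : C →ₐ[R] A) y) -
        e (Algebra.TensorProduct.map (AlgHom.id R' R') ψ y) = dlt (bcHom e φ) y := by
    intro y
    rw [dlt_apply, bcHom_apply]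
    congr 1
    induction y using TensorProduct.induction_on with
    | zero => simp
    | tmul r c =>
      rw [Algebra.TensorProduct.map_tmul, hψ, TensorProduct.counit_tmul]
      have h1 : (AlgHom.id R' R') r ⊗ₜ[R] algebraMap R A (counit (R := R) c) =
          algebraMap R' (R' ⊗[R] A) (counit (R := R) c • counit (R := R') r) := by
        rw [Algebra.TensorProduct.algebraMap_apply, Algebra.algebraMap_eq_smul_one,
          TensorProduct.tmul_smul, TensorProduct.smul_tmul']
        rfl
      rw [h1]
      exact AlgHomClass.commutes (e : R' ⊗[R] A →ₐ[R'] MonoidAlgebra R' M) _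
    | add y z hy hz => rw [map_add, map_add, hy, hz, map_add, map_add]
  rw [key]
  apply dlt_mem_sq_diag (bcHom e φ) 𝔞
  intro y
  rw [← key]
  exact h y

/-- two homomorphisms from a group of multiplicative type over a local ring to a commutative
group which agree on the closed fibre are equal -/
theorem bialgHom_eq_of_local [IsCocomm R C] (hH : IsMultType R A)
    (hC : Algebra.FinitePresentation R C) (φ ψ : C →ₐc[R] A)
    (hs : ∀ c : C, φ c - ψ c ∈ Ideal.map (algebraMap R A) (IsLocalRing.maximalIdeal R)) :
    φ = ψ := by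
  haveI := hC
  obtain ⟨T, hT⟩ := exists_finset_sub_mem_span_of_finiteType (R := R) (A := A) (C := C)
    inferInstance (φ : C →ₐ[R] A) (ψ : C →ₐ[R] A)
  have hmain := algHom_eq_of_local hH (φ : C →ₐ[R] A) (ψ : C →ₐ[R] A) T hT (fun c => hs c) ?_
  · ext c
    exact hmain c
  · intro R' _ _ M _ e 𝔞 h x
    rw [← bcHom_apply, ← bcHom_apply]
    apply sub_mem_sq_diag (bcHom e φ) (bcHom e ψ) 𝔞
    intro y
    rw [bcHom_apply, bcHom_apply]
    exact h y

end final

end Groth.Agent.Lib.Helper6.LocRigid
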